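import Cfsg.Agent.Lib.Comp.Fast

set_option maxRecDepth 100000
set_option Elab.async false

namespace Cfsg.Lib.Comp.U62x

universe u

def iv : ℕ → ℕ := (fun x => look (nat_lit 0xffef7cefae78df6d74cf2c70beeb6caeaa689e69648e28607de75c6da6585d65544d24503ce30d28b209187143101080) 6 x)

noncomputable def R : List (List ℕ × ℕ) := (apd [([1],2),
 ([3],2),
 ([1,3,2,4],0),
 ([5],1),
 ([1,3,5,1,5],0),
 ([5,6,6],0),
 ([5,8,8],0),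
 ([6],3),
 ([8],3),
 ([3,6,4,7],0),
 ([6,8,7,8],0),
 ([1,6,2,8,1,9,7],0),
 ([10],2),
 ([12],2),
 ([1,10,2,11],0),
 ([1,12,2,13],0),
 ([6,12,9,13],0),
 ([10,12,11,13],0),
 ([6,8,10,7,11],0),
 ([14],1),
 ([5,14],1),
 ([3,10,12,14,11,14],0),
 ([6,14],3),
 ([8,14],3),
 ([1,14,2,5],1),
 ([12,7,14,9,10,1],2),
 ([15],1),
 ([5,15],1),
 ([1,15,2,15],0),
 ([6,15,7,15],0),
 ([3,10,15,13,15],0),
 ([14,15],2),
 ([16],1),
 ([5,16],1),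
 ([14,16],1),
 ([1,16,2,16],0),
 ([6,16,7,16],0),
 ([15,16],2),
 ([10,14,16],1),
 ([6,16],3)]
 [([8,16],3),
 ([1,6,2,14,15,16,6,14,15,7,14,2,7,14,15,16,1,8,14,6,2,15,14,9,14,15,1,7,14,9,2,16,15,14,6,1,14,6,15,14,7,16,15,14],0),
 ([1,7,14,9,2,16,15,14,6,1,14,6,15,14,6,2,16,15,14,6,14,15,16,1,7,14,15,7,14,2,7,14,15,16,1,8,14,6,2,15,14,7,14,15],0),
 ([1,2],0),
 ([3,4],0),
 ([6,7],0),
 ([8,9],0),
 ([10,11],0),
 ([12,13],0)])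

def L : List ℕ := [1,2,3,4,5,6,7,8,9,10,11,12,13,14,15,16]

end Cfsg.Lib.Comp.U62x
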