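import Cfsg.Agent.Lib.Comp.U62x.Base

set_option maxRecDepth 100000
set_option Elab.async false

namespace Cfsg.Lib.Comp.U62x

universe u

noncomputable def MuH0_1_R : List (List ℕ × ℕ) := [([6],3),
 ([8],3),
 ([6,8,7,8],0),
 ([10],2),
 ([12],2),
 ([6,12,9,13],0),
 ([10,12,11,13],0),
 ([6,8,10,7,11],0),
 ([6,7],0),
 ([8,9],0),
 ([10,11],0),
 ([12,13],0)]

noncomputable def MuH0_1_n_6 : Net :=
 (Net.cons 4 (nat_lit 0x2)
 (Net.cons 1 (nat_lit 0x41)
 (Net.cons 2 (nat_lit 0x11)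
 (Net.cons 4 (nat_lit 0x8)
 Net.nil))))

noncomputable def MuH0_1_n_8 : Net :=
 (Net.cons 4 (nat_lit 0x6)
 (Net.cons 2 (nat_lit 0x20)
 (Net.cons 1 (nat_lit 0x41)
 (Net.cons 2 (nat_lit 0x2)
 (Net.cons 4 (nat_lit 0x3)
 Net.nil)))))

noncomputable def MuH0_1_n_10 : Net :=
 (Net.cons 4 (nat_lit 0x4)
 (Net.cons 2 (nat_lit 0x20)
 (Net.cons 1 (nat_lit 0x14)
 (Net.cons 2 (nat_lit 0x32)
 (Net.cons 4 (nat_lit 0x4)
 Net.nil)))))

noncomputable def MuH0_1_n_12 : Net :=
 (Net.cons 4 (nat_lit 0x4)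
 (Net.cons 2 (nat_lit 0x20)
 (Net.cons 1 (nat_lit 0x14)
 (Net.cons 2 (nat_lit 0x32)
 (Net.cons 4 (nat_lit 0x4)
 Net.nil)))))

noncomputable def MuH0_1_n : List Net := [Net.nil,
 Net.nil,
 Net.nil,
 Net.nil,
 Net.nil,
 Net.nil,
 MuH0_1_n_6,
 Net.rev MuH0_1_n_6,
 MuH0_1_n_8,
 Net.rev MuH0_1_n_8,
 MuH0_1_n_10,
 Net.rev MuH0_1_n_10,
 MuH0_1_n_12,
 Net.rev MuH0_1_n_12]

theorem MuH0_1_n_ok : NetsOK 8 MuH0_1_n := netsOK_of (by decide +kernel)

theorem MuH0_1_n_rel : Rels (gp MuH0_1_n) MuH0_1_R := rels_of_relsB (k := 3) MuH0_1_n_ok (by norm_num) (by decide +kernel)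

noncomputable def MuH0_1_b0h : ℕ := (nat_lit 0xb0000030000060000000008000006000000000300000b000700000800000b0000000013000008000600000d00000b0009000013000017000d00000d000017000a0000040000170007000011000013000600000b000013000d00000b000013000b000003000013000a00000d000011000b000002000011000a000005000005000b00000d000002000600000400000d000900000200000d000a00000800000b000b00000100000b000a00000100000800070000040000080009000001000008)

noncomputable def MuH0_1_b0c : List ℕ := [(nat_lit 0x5b000011000057006b0300000e00005500005300560300001300004f00002f00660300003500004d005a0200000700001900004900003500020400003100004500004300220300003f000019000029000039004c0400003f00001800001f003e0300000000002f00001000000c000025004e0400002f00000e00001200000d00540400002f00001800000d003c0300000000002700001f001a0200000000000e00001500001d00000c00450400000e00001400001000001900520400001700000e000010000a0300000000000f000009001a0200000000000300000c00001600000e004a0400000300000c000010001203000000000018)]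

theorem MuH0_1_fin : finB 8 MuH0_1_n [6,7,8,9,10,11,12,13] 8 (runH 8 MuH0_1_n (tbk 3 4 prs3 MuH0_1_n 8) iv MuH0_1_R [] ([10,11,12,13].map fun x => [x]) 0 [(fun t => look MuH0_1_b0h 64 t, MuH0_1_b0c)]
  [1,5,9,13,32,36,0,8,20,32,44,2,28,40,12,24,28,36,40,44,4,8,20,28,32,36,40,44,4,12,16,20,24,36]
  (defsH 8 MuH0_1_n (ones 136) [6,7,8,9,6] (Nat.shiftLeft 1 0) 0)) = true := by decide +kernel

theorem MuH0_1_idx : Idx.{u} iv (MuH0_1_R ++ []) ([10,11,12,13].map fun x => [x]) [6,7,8,9,10,11,12,13] 8 :=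
  Reach.idx MuH0_1_n_ok (reach_runH MuH0_1_n_ok (tbk_eq tr3 (by norm_num) (by norm_num) (by norm_num) MuH0_1_n_ok) MuH0_1_n_rel (reach_defsH MuH0_1_n_ok _ _ _ _ _ _) _ _) MuH0_1_fin (by norm_num)

end Cfsg.Lib.Comp.U62x
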