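import Cfsg.Agent.Lib.Comp.U62x.MuH0_0
import Cfsg.Agent.Lib.Comp.U62x.MuH0_1
import Cfsg.Agent.Lib.Comp.U62x.MuH0_2
import Cfsg.Agent.Lib.Comp.U62x.MuH0_3
import Cfsg.Agent.Lib.Comp.U62x.Mu0
import Cfsg.Agent.Lib.Comp.U62x.Main
import Cfsg.Agent.Lib.Comp.Cover
import Cfsg.Agent.Lib.MatB.Mult

set_option maxRecDepth 100000
set_option Elab.async false

namespace Cfsg.Lib.Comp.U62x

universe u

theorem MuH0_3_ord : Ord.{u} iv MuH0_3_R [10,11] 3 :=
  (MuH0_3_idx.ord_base).of_cons (cons_of_subset (by decide +kernel))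

theorem MuH0_2_ord : Ord.{u} iv MuH0_2_R [10,11,12,13] 9 :=
  (MuH0_2_idx.ord_step MuH0_3_ord).of_cons (cons_of_subset (by decide +kernel))

theorem MuH0_1_ord : Ord.{u} iv MuH0_1_R [6,7,8,9,10,11,12,13] 72 :=
  (MuH0_1_idx.ord_step MuH0_2_ord).of_cons (cons_of_subset (by decide +kernel))

theorem MuH0_0_ord : Ord.{u} iv MuH0_0_R [1,2,6,7,8,9,10,11,12,13] 1944 :=
  (MuH0_0_idx.ord_step MuH0_1_ord).of_cons (cons_of_subset (by decide +kernel))

noncomputable def MuH0_lb_n_1 : Net :=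
 (Net.cons 64 (nat_lit 0xffc0000000000000)
 (Net.cons 32 (nat_lit 0xff4c205000000000809dd6d0)
 (Net.cons 16 (nat_lit 0x7e5200000c8c0000df800000bb0c)
 (Net.cons 8 (nat_lit 0xc200180044004800a200d000a4008e)
 (Net.cons 4 (nat_lit 0xc06000c0a000c040802000800020a04)
 (Net.cons 2 (nat_lit 0x2202002200002220000000000220000)
 (Net.cons 1 (nat_lit 0x44404041450004140510400405115004)
 (Net.cons 2 (nat_lit 0x21302033133211011020100203200003)
 (Net.cons 4 (nat_lit 0x2060200090b0c04030b000800090201)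
 (Net.cons 8 (nat_lit 0x4a00790012000b003100f000b500dc)
 (Net.cons 16 (nat_lit 0x7e520000cdcc0000df100000bb0b)
 (Net.cons 32 (nat_lit 0x800c20df00000000809f5a30)
 (Net.cons 64 (nat_lit 0xffc0000000000000)
 Net.nil)))))))))))))

noncomputable def MuH0_lb_n_6 : Net :=
 (Net.cons 64 (nat_lit 0x8100203ff00a7800)
 (Net.cons 32 (nat_lit 0xc38e2382000000004467215e)
 (Net.cons 16 (nat_lit 0xc3300000830c0000299000008484)
 (Net.cons 8 (nat_lit 0x82002c00c600d00014001c00bc)
 (Net.cons 4 (nat_lit 0xc0c0a0000000804080a0004080808)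
 (Net.cons 2 (nat_lit 0x220000000020222202000000002)
 (Net.cons 1 (nat_lit 0x1404140111440015144441511405101)
 (Net.cons 2 (nat_lit 0x300201230022023312103201003300)
 (Net.cons 4 (nat_lit 0xe020600010b0c070b04020e070a05)
 (Net.cons 8 (nat_lit 0xb001c00c600da0018000a00fc)
 (Net.cons 16 (nat_lit 0xc3b00000837c0000237200008a44)
 (Net.cons 32 (nat_lit 0xc38e23420000000072862add)
 (Net.cons 64 (nat_lit 0x8100201ff00c7800)
 Net.nil)))))))))))))

noncomputable def MuH0_lb_n_8 : Net :=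
 (Net.cons 64 (nat_lit 0x80435b9de021bb40)
 (Net.cons 32 (nat_lit 0xc1c044340000000083d1b830)
 (Net.cons 16 (nat_lit 0x1ef80000015800001eb40000f5b0)
 (Net.cons 8 (nat_lit 0x98004000e8006a0060005e002000a0)
 (Net.cons 4 (nat_lit 0x408080208040a040a020c0a0000)
 (Net.cons 2 (nat_lit 0x20200000000000202002000000000000)
 (Net.cons 1 (nat_lit 0x15410001110404451441140140104510)
 (Net.cons 2 (nat_lit 0x33020103312132300023312003023303)
 (Net.cons 4 (nat_lit 0x401040c0a0b0a070f00010b060a0900)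
 (Net.cons 8 (nat_lit 0x58004100f5006e00a800ee00800090)
 (Net.cons 16 (nat_lit 0x1fb800008166000034490000f390)
 (Net.cons 32 (nat_lit 0xc1c046b80000000087cdb8d0)
 (Net.cons 64 (nat_lit 0x80435873c051bd40)
 Net.nil)))))))))))))

noncomputable def MuH0_lb_n_10 : Net :=
 (Net.cons 64 (nat_lit 0x618fb326d8830f0c)
 (Net.cons 32 (nat_lit 0x3c9c001800000000283acb64)
 (Net.cons 16 (nat_lit 0x202000002cc8000030340000f7b0)
 (Net.cons 8 (nat_lit 0x220054006400f000880062001000ec)
 (Net.cons 4 (nat_lit 0xc020808000a040400040c06080c040a)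
 (Net.cons 2 (nat_lit 0x2000020000000000202200000022000)
 (Net.cons 1 (nat_lit 0x54011411050110550414150550114054)
 (Net.cons 2 (nat_lit 0x2011122012021030030202000122310)
 (Net.cons 4 (nat_lit 0xe0a0b01080c0700000e000e0b090e03)
 (Net.cons 8 (nat_lit 0x2f00c900690002008c009200750034)
 (Net.cons 16 (nat_lit 0x11bf00006ee00000387e0000e041)
 (Net.cons 32 (nat_lit 0x7c90b62100000000327ace9e)
 (Net.cons 64 (nat_lit 0x618fb7b6089f4bcc)
 Net.nil)))))))))))))

noncomputable def MuH0_lb_n_12 : Net :=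
 (Net.cons 64 (nat_lit 0x7cf2a15e93abf840)
 (Net.cons 32 (nat_lit 0x1f0001e00000000097128432)
 (Net.cons 16 (nat_lit 0x1c080000e68000004e4800009ca0)
 (Net.cons 8 (nat_lit 0x4e008600f400cc004a000000f80018)
 (Net.cons 4 (nat_lit 0x60208040a040200040a080802080c0a)
 (Net.cons 2 (nat_lit 0x200020000000000020000200000020)
 (Net.cons 1 (nat_lit 0x5441441545105514540010404501545)
 (Net.cons 2 (nat_lit 0x1122210320202331310020103312320)
 (Net.cons 4 (nat_lit 0x60600000000070c010e09000a080e0e)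
 (Net.cons 8 (nat_lit 0x6c0090005c001d0003000400bc00f2)
 (Net.cons 16 (nat_lit 0x1eca0000fefe0000cd4e00009f0d)
 (Net.cons 32 (nat_lit 0x6bf000ce0000000097169c31)
 (Net.cons 64 (nat_lit 0x7cf2a1ca9bb35dfb)
 Net.nil)))))))))))))

noncomputable def MuH0_lb_n_64 : Net :=
 (Net.cons 64 (nat_lit 0x8000000000000000)
 (Net.cons 32 (nat_lit 0xe000000000000000ffcc0000)
 (Net.cons 16 (nat_lit 0xe0000000fe280000e86400000000)
 (Net.cons 8 (nat_lit 0x48007200fc002800d400ca00f0)
 (Net.cons 4 (nat_lit 0xa040e08080c0808040000020000)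
 (Net.cons 2 (nat_lit 0x2000200000000000000000200002)
 (Net.cons 1 (nat_lit 0x4555155555414151401154441004)
 (Net.cons 2 (nat_lit 0x221130321120313130311323000)
 (Net.cons 4 (nat_lit 0x80c0b010d0c0302070d05060300)
 (Net.cons 8 (nat_lit 0xe500ac00fc004000d000d200f0)
 (Net.cons 16 (nat_lit 0xe0000000fd440000e29100000000)
 (Net.cons 32 (nat_lit 0xe000000000000000fff00000)
 (Net.cons 64 (nat_lit 0x8000000000000000)
 Net.nil)))))))))))))

noncomputable def MuH0_lb_n_66 : Net :=
 (Net.cons 64 (nat_lit 0x8000000000000000)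
 (Net.cons 32 (nat_lit 0x9800000000000000c0000000)
 (Net.cons 16 (nat_lit 0x10000000a4000000ad8000000000)
 (Net.cons 8 (nat_lit 0x30008c008000e0008400000008)
 (Net.cons 4 (nat_lit 0x40a040000040402020e04080002)
 (Net.cons 2 (nat_lit 0x2000000022020020000002000000)
 (Net.cons 1 (nat_lit 0x4050400044444511010501040010)
 (Net.cons 2 (nat_lit 0x2000020122020320002312300200)
 (Net.cons 4 (nat_lit 0x800050a0402070504060e0e06080006)
 (Net.cons 8 (nat_lit 0x30008c008000e0008400000008)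
 (Net.cons 16 (nat_lit 0x10000000a4000000ed8400000000)
 (Net.cons 32 (nat_lit 0x9800000000000000c0000000)
 (Net.cons 64 (nat_lit 0x8000000000000000)
 Net.nil)))))))))))))

noncomputable def MuH0_lb_n_67 : Net :=
 (Net.cons 32 (nat_lit 0x800000000000000000000000)
 (Net.cons 16 (nat_lit 0x8000000080000000000000000000)
 (Net.cons 8 (nat_lit 0xc000f000000000000000000000)
 (Net.cons 4 (nat_lit 0x8000808000800080000000000)
 (Net.cons 2 (nat_lit 0x2200000200220000000000)
 (Net.cons 1 (nat_lit 0x4505514150545415141555540150)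
 (Net.cons 2 (nat_lit 0x3002230003200220000000000)
 (Net.cons 4 (nat_lit 0x8000808000800080000000000)
 (Net.cons 8 (nat_lit 0xc000f000000000000000000000)
 (Net.cons 16 (nat_lit 0x8000000080000000000000000000)
 (Net.cons 32 (nat_lit 0x800000000000000000000000)
 Net.nil)))))))))))

noncomputable def MuH0_lb_n : List Net := (apd [Net.nil,
 MuH0_lb_n_1,
 Net.rev MuH0_lb_n_1,
 Net.nil,
 Net.nil,
 Net.nil,
 MuH0_lb_n_6,
 Net.rev MuH0_lb_n_6,
 MuH0_lb_n_8,
 Net.rev MuH0_lb_n_8,
 MuH0_lb_n_10,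
 Net.rev MuH0_lb_n_10,
 MuH0_lb_n_12,
 Net.rev MuH0_lb_n_12,
 Net.nil,
 Net.nil,
 Net.nil,
 Net.nil,
 Net.nil,
 Net.nil,
 Net.nil,
 Net.nil,
 Net.nil,
 Net.nil,
 Net.nil,
 Net.nil,
 Net.nil,
 Net.nil,
 Net.nil,
 Net.nil,
 Net.nil,
 Net.nil,
 Net.nil,
 Net.nil,
 Net.nil,
 Net.nil,
 Net.nil,
 Net.nil,
 Net.nil,
 Net.nil]
 [Net.nil,
 Net.nil,
 Net.nil,
 Net.nil,
 Net.nil,
 Net.nil,
 Net.nil,
 Net.nil,
 Net.nil,
 Net.nil,
 Net.nil,
 Net.nil,
 Net.nil,
 Net.nil,
 Net.nil,
 Net.nil,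
 Net.nil,
 Net.nil,
 Net.nil,
 Net.nil,
 Net.nil,
 Net.nil,
 Net.nil,
 Net.nil,
 MuH0_lb_n_64,
 Net.rev MuH0_lb_n_64,
 MuH0_lb_n_66,
 MuH0_lb_n_67])

theorem MuH0_lb_n_ok : NetsOK 128 MuH0_lb_n := netsOK_of (by decide +kernel)

theorem MuH0_lb : 1944 ≤ Nat.card (cl (gp nets) [1,2,6,7,8,9,10,11,12,13]) :=
  lb_of_itwB (k := 7) (n := 108) nets_ok MuH0_lb_n_ok (by norm_num) (by norm_num) (tbA_pt nets_ok) (tbA_pt MuH0_lb_n_ok) (φ := look2 (nat_lit 0x9f000a2000ad000af0009600099000a5000a80009e000810007b0008b000860007a000750007f0008800074000a6000a3000a9000b00009c0009b000a0000ab00098000800007c00089000850007200076000830008a00078000a7000a1000aa000ac0009d00097000a4000ae0009a0007e00082000870008c00073000790007d00084000770004e0005100068000640005a0005700055000600005e0005300056000620006500050000660005c0005f000580009000095000930009100094000920006e0006f000700006c000710006d0004a0004b0004d00049000480004c0008e0006b0008d0006a0008f0006900047000460004f0005400061000670005d0005b00052000630005900045)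 20 64) (by decide +kernel) (by
    rw [← cl_eq_of_slpB (k := 7) (D := [(64,[6,11,7,13,7]),
 (65,[6,12,6,10,7]),
 (66,[2,9,9,1]),
 (67,[64,64,64])]) MuH0_lb_n_ok (by norm_num) (by decide +kernel)]
    exact lb_of_chainB MuH0_lb_n_ok (C := [([64,65,66,67],[1,6,8,10,1,10,1,6,8],0,0,108),
 ([67],[64,66,64,67],1,1,9),
 ([],[67],36,36,2)]) (by decide +kernel))

theorem Mu_mb : Cfsg.Lib.MatB.MB2 (cl (gp nets) L) 13860 6 2 :=
  Cfsg.Lib.MatB.mb_two (w := 36) (n := 49) (La := L) (ix := nth 0 [0,0,0,0,0,3,0,0,0,0,0,0,0,0,19,26,32]) (by norm_num) (by norm_num) (nets_iv.sval _) (nets_rel.sval fun r hr x hx => mem_cl (sub_of_allR (by decide +kernel) r hr x hx)) (by decide +kernel)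
    (TStep.trans (TStep.trans (TStep.trans (TStep.trans (TStep.trans (TStep.trans (TStep.trans (TStep.trans (TStep.trans (TStep.trans (TStep.trans (TStep.trans (TStep.trans (TStep.trans (TStep.trans (TStep.trans (TStep.trans (TStep.trans (TStep.trans (TStep.trans (TStep.repar (k' := 39) (by norm_num) (by norm_num) (by decide +kernel) (by decide +kernel) Mu1_b)
    (TStep.enum0 (by norm_num) (by norm_num) Mu2_0 (Gs := Mu2G) (by decide +kernel)))
    (TStep.repar (k' := 38) (by norm_num) (by norm_num) (by decide +kernel) (by decide +kernel) Mu3_b))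
    (TStep.enum0 (by norm_num) (by norm_num) Mu4_0 (Gs := Mu4G) (by decide +kernel)))
    (TStep.repar (k' := 37) (by norm_num) (by norm_num) (by decide +kernel) (by decide +kernel) Mu5_b))
    (TStep.enum0 (by norm_num) (by norm_num) Mu6_0 (Gs := Mu6G) (by decide +kernel)))
    (TStep.repar (k' := 35) (by norm_num) (by norm_num) (by decide +kernel) (by decide +kernel) Mu7_b))
    (TStep.enum0 (by norm_num) (by norm_num) Mu8_0 (Gs := Mu8G) (by decide +kernel)))
    (TStep.repar (k' := 29) (by norm_num) (by norm_num) (by decide +kernel) (by decide +kernel) Mu9_b))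
    (TStep.enum0 (by norm_num) (by norm_num) Mu10_0 (Gs := Mu10G) (by decide +kernel)))
    (TStep.repar (k' := 22) (by norm_num) (by norm_num) (by decide +kernel) (by decide +kernel) Mu11_b))
    (TStep.enum0 (by norm_num) (by norm_num) Mu12_0 (Gs := Mu12G) (by decide +kernel)))
    (TStep.repar (k' := 19) (by norm_num) (by norm_num) (by decide +kernel) (by decide +kernel) Mu13_b))
    (TStep.enum0 (by norm_num) (by norm_num) Mu14_0 (Gs := Mu14G) (by decide +kernel)))
    (TStep.repar (k' := 13) (by norm_num) (by norm_num) (by decide +kernel) (by decide +kernel) Mu15_b))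
    (TStep.enum0 (by norm_num) (by norm_num) Mu16_0 (Gs := Mu16G) (by decide +kernel)))
    (TStep.repar (k' := 6) (by norm_num) (by norm_num) (by decide +kernel) (by decide +kernel) Mu17_b))
    (TStep.repar (k' := 6) (by norm_num) (by norm_num) (by decide +kernel) (by decide +kernel) Mu18_b))
    (TStep.enum (by norm_num) (by norm_num) Mu19_0 (I := [0,7,8,10,11,12,13,14,15,16,17,18,43,45,46,47,48]) (by decide +kernel) (by decide +kernel) MuH0_0_ord (c := 1) (lb_sval (fun _ hx => mem_cl (sub_of_subB (by decide +kernel) _ hx)) MuH0_lb (by norm_num)) (Gs := Mu19G) (by decide +kernel)))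
    (TStep.repar (k' := 2) (by norm_num) (by norm_num) (by decide +kernel) (by decide +kernel) Mu20_b))
    (TStep.cons (by norm_num) (by norm_num) (c := (nat_lit 0x1000002d1f)) (v := (nat_lit 0x2000000000)) (by decide +kernel) (by decide +kernel)))
    (by decide +kernel) ord card.ge (cl_sval_top _ _)

end Cfsg.Lib.Comp.U62x
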