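import Cfsg.Agent.Lib.Comp.U62x.Base

set_option maxRecDepth 100000
set_option Elab.async false

namespace Cfsg.Lib.Comp.U62x

universe u

noncomputable def T3_R : List (List ℕ × ℕ) := [([1],2),
 ([3],2),
 ([1,3,2,4],0),
 ([5],1),
 ([1,3,5,1,5],0),
 ([5,6,6],0),
 ([5,8,8],0),
 ([6],3),
 ([8],3),
 ([3,6,4,7],0),
 ([6,8,7,8],0),
 ([1,6,2,8,1,9,7],0),
 ([10],2),
 ([12],2),
 ([1,10,2,11],0),
 ([1,12,2,13],0),
 ([6,12,9,13],0),
 ([10,12,11,13],0),
 ([6,8,10,7,11],0),
 ([1,2],0),
 ([3,4],0),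
 ([6,7],0),
 ([8,9],0),
 ([10,11],0),
 ([12,13],0)]

noncomputable def T3_n_10 : Net :=
 (Net.cons 5 (nat_lit 0x14)
 (Net.cons 1 (nat_lit 0x4)
 (Net.cons 1 (nat_lit 0x142)
 (Net.cons 1 (nat_lit 0xa1)
 (Net.cons 1 (nat_lit 0x40)
 (Net.cons 5 (nat_lit 0x11)
 Net.nil))))))

noncomputable def T3_n_12 : Net :=
 (Net.cons 5 (nat_lit 0x2)
 (Net.cons 1 (nat_lit 0xa1)
 (Net.cons 1 (nat_lit 0xa)
 (Net.cons 1 (nat_lit 0x4)
 (Net.cons 1 (nat_lit 0x2)
 (Net.cons 1 (nat_lit 0x1)
 (Net.cons 5 (nat_lit 0x4)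
 Net.nil)))))))

noncomputable def T3_n : List Net := [Net.nil,
 Net.nil,
 Net.nil,
 Net.nil,
 Net.nil,
 Net.nil,
 Net.nil,
 Net.nil,
 Net.nil,
 Net.nil,
 T3_n_10,
 Net.rev T3_n_10,
 T3_n_12,
 Net.rev T3_n_12]

theorem T3_n_ok : NetsOK 10 T3_n := netsOK_of (by decide +kernel)

theorem T3_n_rel : Rels (gp T3_n) T3_R := rels_of_relsB (k := 4) T3_n_ok (by norm_num) (by decide +kernel)

noncomputable def T3_b0h : ℕ := (nat_lit 0x7000008000008000800000600001a00050000060000060000000019000006000c00001a000016000b00001200001a000600001900001a000700000600001a0005000006000019000b00001000001600060000050000160007000005000016000d000010000012000700001200001200080000040000120009000004000012000800001000001000070000030000100005000002000002000000000200000a000800000200000b000600000a00000b000700000200000b000500000200000a)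

noncomputable def T3_b0c : List ℕ := [(nat_lit 0x1400005900004300001600e30400004d00003700001a00c40300003d000051001b0200001400002500002b00004900004700e20500003b00002d00004900ca0300004300001400000e00002100e40400004300003d003a0200000000000000003300001400001900001f00e40400003300000a003a0200000000002300001800001900c00300002300000c000025006a0300002300000a00460200000000001b000010000019006603000000000001000013001b0200000900000f00000500000f006c0400000700001600000e00001400da04000007000001003a02000000000000000018)]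

theorem T3_fin : finB 10 T3_n [1,2,3,4,5,6,7,8,9,10,11,12,13] 9 (runH 10 T3_n (tbk 4 4 prs4 T3_n 16) iv T3_R [] ([1,2,3,4,5,6,7,8,9].map fun x => [x]) 0 [(fun t => look T3_b0h 64 t, T3_b0c)]
  (apd [1,5,9,13,17,21,25,29,33,92,96,48,52,56,60,64,68,72,76,84,88,92,96,20,24,48,56,60,64,68,88,16,24,36,80,16,80,2,16,80,84,20,64,72,88,16,36,64,72,84,20,64,72,84,88,16,36,64,72,84]
 [64,72])
  (defsH 10 T3_n (ones 170) [10,11,12,13] (Nat.shiftLeft 1 0) 0)) = true := by decide +kernel

theorem T3_idx : Idx.{u} iv (T3_R ++ []) ([1,2,3,4,5,6,7,8,9].map fun x => [x]) [1,2,3,4,5,6,7,8,9,10,11,12,13] 9 :=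
  Reach.idx T3_n_ok (reach_runH T3_n_ok (tbk_eq tr4 (by norm_num) (by norm_num) (by norm_num) T3_n_ok) T3_n_rel (reach_defsH T3_n_ok _ _ _ _ _ _) _ _) T3_fin (by norm_num)

end Cfsg.Lib.Comp.U62x
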