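import Cfsg.Agent.Lib.Comp.U62x.Base

set_option maxRecDepth 100000
set_option Elab.async false

namespace Cfsg.Lib.Comp.U62x

universe u

noncomputable def T7_R : List (List ℕ × ℕ) := [([1],2),
 ([1,2],0)]

noncomputable def T7_n_1 : Net :=
 (Net.cons 1 (nat_lit 0x2)
 (Net.cons 1 (nat_lit 0x1)
 Net.nil))

noncomputable def T7_n : List Net := [Net.nil,
 T7_n_1,
 Net.rev T7_n_1]

theorem T7_n_ok : NetsOK 3 T7_n := netsOK_of (by decide +kernel)

theorem T7_n_rel : Rels (gp T7_n) T7_R := rels_of_relsB (k := 2) T7_n_ok (by norm_num) (by decide +kernel)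

theorem T7_fin : finB 3 T7_n [1,2] 3 (runH 3 T7_n (fun x p => ptInv (nth Net.nil T7_n x) p) iv T7_R [] ([].map fun x => [x]) 0 []
  [4,0,4]
  (defsH 3 T7_n (ones 51) [1,2] (Nat.shiftLeft 1 0) 0)) = true := by decide +kernel

theorem T7_idx : Idx.{u} iv (T7_R ++ []) ([].map fun x => [x]) [1,2] 3 :=
  Reach.idx T7_n_ok (reach_runH T7_n_ok (fun x p _ => ptInv_gp T7_n_ok x p) T7_n_rel (reach_defsH T7_n_ok _ _ _ _ _ _) _ _) T7_fin (by norm_num)

end Cfsg.Lib.Comp.U62x
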